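import Mathlib

/-! Largest open on which a local property holds. -/

set_option autoImplicit false
set_option backward.isDefEq.respectTransparency false
set_option backward.isDefEq.respectTransparency.types false

universe u

open CategoryTheory CategoryTheory.Limits AlgebraicGeometry MorphismProperty

namespace Groth.Agent.LargestOpen

variable {Q : MorphismProperty Scheme.{u}} (hQι : ∀ {X Y : Scheme.{u}} (j : X ⟶ Y) [IsOpenImmersion j], Q j)
  (hQlift : ∀ {X V : Scheme.{u}} (g : V ⟶ X) (W : X.Opens) (g' : V ⟶ W.toScheme), Q g → g' ≫ W.ι = g → Q g')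
  (hQopen : ∀ {X V : Scheme.{u}} (g : V ⟶ X), Q g → IsOpenMap g)

/-- Lifts along open immersions stay in a class stable under base change. -/
theorem lift_mem {Q : MorphismProperty Scheme.{u}} [Q.IsStableUnderBaseChange] {X V : Scheme.{u}} (g : V ⟶ X)
    (W : X.Opens) (g' : V ⟶ W.toScheme) (hg : Q g) (hg' : g' ≫ W.ι = g) : Q g' := by
  have w : 𝟙 V ≫ g = g' ≫ W.ι := by rw [Category.id_comp, hg']
  have h : IsPullback (𝟙 V) g' g W.ι :=
    ⟨⟨w⟩, ⟨PullbackCone.IsLimit.mk _ (fun s => s.fst) (fun s => Category.comp_id _)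
      (fun s => by
        rw [← cancel_mono W.ι, Category.assoc, hg']
        exact s.condition)
      (fun s m h1 _ => by simpa using h1)⟩⟩
  exact Q.of_isPullback h hg

/-- The two-member family `g', 𝟙`. -/
def twoObj (V S : Scheme.{u}) : ULift.{u} Bool → Scheme.{u} := fun b => cond b.down V S

/-- The two-member family `g', 𝟙`. -/
def twoHom {V S : Scheme.{u}} (g' : V ⟶ S) : ∀ b, twoObj V S b ⟶ S
  | ⟨true⟩ => g'
  | ⟨false⟩ => 𝟙 S

include hQι in
theorem two_mem {V S : Scheme.{u}} (g' : V ⟶ S) (hg : Q g') :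
    Presieve.ofArrows (twoObj V S) (twoHom g') ∈ Scheme.precoverage Q S := by
  rw [Scheme.ofArrows_mem_precoverage_iff]
  refine ⟨fun x => ⟨⟨false⟩, x, rfl⟩, ?_⟩
  rintro ⟨_ | _⟩
  · exact hQι (𝟙 S)
  · exact hg

theorem one_mem {V S : Scheme.{u}} (g' : V ⟶ S) (hg : Q g') (hs : Function.Surjective g') :
    Presieve.ofArrows (fun _ : PUnit.{u + 1} => V) (fun _ => g') ∈ Scheme.precoverage Q S := by
  rw [Scheme.ofArrows_mem_precoverage_iff]
  exact ⟨fun x => ⟨⟨⟩, hs x⟩, fun _ => hg⟩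

section Source

variable {P : MorphismProperty Scheme.{u}} [P.IsLocalAtSource (Scheme.precoverage Q)]

include hQι hQlift in
theorem comp_of_range_le {X Y V : Scheme.{u}} (f : X ⟶ Y) (W : X.Opens) (hW : P (W.ι ≫ f)) (g : V ⟶ X)
    (hg : Q g) (hr : Set.range g ⊆ (W : Set X)) : P (g ≫ f) := by
  let g' := IsOpenImmersion.lift W.ι g (by rwa [Scheme.Opens.range_ι])
  have hg' : g' ≫ W.ι = g := IsOpenImmersion.lift_fac _ _ _
  have := IsLocalAtSource.comp (P := P) (K := Scheme.precoverage Q) (two_mem hQι g' (hQlift g W g' hg hg')) g'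
    (Presieve.ofArrows.mk (f := twoHom g') ⟨true⟩) hW
  rwa [← Category.assoc, hg'] at this

include hQlift in
theorem of_image {X Y V : Scheme.{u}} (f : X ⟶ Y) (g : V ⟶ X) (hg : Q g) (ho : IsOpenMap g) (hP : P (g ≫ f)) :
    P (Scheme.Opens.ι (⟨Set.range g, ho.isOpen_range⟩ : X.Opens) ≫ f) := by
  let W : X.Opens := ⟨Set.range g, ho.isOpen_range⟩
  let g' := IsOpenImmersion.lift W.ι g (by rw [Scheme.Opens.range_ι]; rfl)
  have hg' : g' ≫ W.ι = g := IsOpenImmersion.lift_fac _ _ _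
  have hs : Function.Surjective g' := fun w => by
    obtain ⟨v, hv⟩ := w.2
    refine ⟨v, W.ι.isOpenEmbedding.injective ?_⟩
    rw [← Scheme.Hom.comp_apply, hg']
    exact hv
  refine IsLocalAtSource.of_forall_comp (P := P) (K := Scheme.precoverage Q) (one_mem g' (hQlift g W g' hg hg') hs) ?_
  rintro _ _ ⟨⟨⟩⟩
  rwa [← Category.assoc, hg']

include hQι hQlift hQopen in
theorem exists_source (hQcomp : ∀ {A B C : Scheme.{u}} (a : A ⟶ B) (b : B ⟶ C), Q a → Q b → Q (a ≫ b))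
    {X Y : Scheme.{u}} (f : X ⟶ Y) :
    ∃ W : X.Opens, (P (W.ι ≫ f) ∧ ∀ W' : X.Opens, P (W'.ι ≫ f) → W' ≤ W) ∧
      ∀ (X' : Scheme.{u}) (g : X' ⟶ X), Q g → ∀ V : X'.Opens,
        (P (V.ι ≫ g ≫ f) ∧ ∀ V' : X'.Opens, P (V'.ι ≫ g ≫ f) → V' ≤ V) → V = g ⁻¹ᵁ W := by
  let W : X.Opens := sSup {U | P (U.ι ≫ f)}
  have hle : ∀ U : X.Opens, P (U.ι ≫ f) → U ≤ W := fun U hU => le_sSup hU
  let J := {U : X.Opens // P (U.ι ≫ f)}
  have hW : P (W.ι ≫ f) := by
    refine IsLocalAtSource.of_forall_comp (P := P) (K := Scheme.precoverage Q) (R := Presieve.ofArrows (fun U : J => U.1.toScheme)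
      (fun U : J => X.homOfLE (hle U.1 U.2))) ?_ ?_
    · rw [Scheme.ofArrows_mem_precoverage_iff]
      refine ⟨fun x => ?_, fun U => hQι _⟩
      obtain ⟨U, hU, hx⟩ := TopologicalSpace.Opens.mem_sSup.1 x.2
      refine ⟨⟨U, hU⟩, ⟨x.1, hx⟩, W.ι.isOpenEmbedding.injective ?_⟩
      rw [← Scheme.Hom.comp_apply, Scheme.homOfLE_ι]
      rfl
    · rintro _ _ ⟨U⟩
      rw [Scheme.homOfLE_ι_assoc]
      exact U.2
  refine ⟨W, ⟨hW, hle⟩, fun X' g hg V ⟨hV, hVmax⟩ => le_antisymm ?_ (hVmax _ ?_)⟩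
  · intro v hv
    have hgV : Q (V.ι ≫ g) := hQcomp _ _ (hQι _) hg
    rw [← Category.assoc] at hV
    exact hle _ (of_image hQlift f (V.ι ≫ g) hgV (hQopen _ hgV) hV) ⟨⟨v, hv⟩, by rw [Scheme.Hom.comp_apply]; rfl⟩
  · rw [← Category.assoc]
    refine comp_of_range_le hQι hQlift f W hW _ (hQcomp _ _ (hQι _) hg) ?_
    rintro _ ⟨v, rfl⟩
    rw [Scheme.Hom.comp_apply]
    exact v.2

end Source

section Target

variable {P : MorphismProperty Scheme.{u}} [P.IsLocalAtTarget (Scheme.precoverage Q)]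

omit hQι hQlift hQopen in
theorem snd_lift_iff [P.RespectsIso] {X Y Y' : Scheme.{u}} (f : X ⟶ Y) (W : Y.Opens) (g : Y' ⟶ Y)
    (g' : Y' ⟶ W.toScheme) (hg : g' ≫ W.ι = g) :
    P (pullback.snd (f ∣_ W) g') ↔ P (pullback.snd f g) := by
  have h1 := (IsPullback.of_hasPullback (f ∣_ W) g').flip.paste_vert (isPullback_morphismRestrict f W)
  rw [hg] at h1
  rw [← h1.flip.isoPullback_hom_snd]
  exact P.cancel_left_of_respectsIso h1.flip.isoPullback.hom _

include hQι hQlift in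
theorem snd_of_range_le {X Y Y' : Scheme.{u}} (f : X ⟶ Y) (W : Y.Opens) (hW : P (f ∣_ W)) (g : Y' ⟶ Y)
    (hg : Q g) (hr : Set.range g ⊆ (W : Set Y)) : P (pullback.snd f g) := by
  let g' := IsOpenImmersion.lift W.ι g (by rwa [Scheme.Opens.range_ι])
  have hg' : g' ≫ W.ι = g := IsOpenImmersion.lift_fac _ _ _
  rw [← snd_lift_iff (P := P) f W g g' hg']
  exact IsLocalAtTarget.pullbackSnd (P := P) (K := Scheme.precoverage Q) (two_mem hQι g' (hQlift g W g' hg hg'))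
    (Presieve.ofArrows.mk (f := twoHom g') ⟨true⟩) hW

include hQlift in
theorem restrict_of_image {X Y Y' : Scheme.{u}} (f : X ⟶ Y) (g : Y' ⟶ Y) (hg : Q g) (ho : IsOpenMap g)
    (hP : P (pullback.snd f g)) : P (f ∣_ (⟨Set.range g, ho.isOpen_range⟩ : Y.Opens)) := by
  let W : Y.Opens := ⟨Set.range g, ho.isOpen_range⟩
  let g' := IsOpenImmersion.lift W.ι g (by rw [Scheme.Opens.range_ι]; rfl)
  have hg' : g' ≫ W.ι = g := IsOpenImmersion.lift_fac _ _ _
  have hs : Function.Surjective g' := fun w => by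
    obtain ⟨v, hv⟩ := w.2
    refine ⟨v, W.ι.isOpenEmbedding.injective ?_⟩
    rw [← Scheme.Hom.comp_apply, hg']
    exact hv
  refine IsLocalAtTarget.of_forall_pullbackSnd (P := P) (K := Scheme.precoverage Q) (one_mem g' (hQlift g W g' hg hg') hs) ?_
  rintro _ _ _ ⟨⟨⟩⟩
  exact (snd_lift_iff f W g g' hg').2 hP

include hQι hQlift hQopen in
theorem exists_target (hQcomp : ∀ {A B C : Scheme.{u}} (a : A ⟶ B) (b : B ⟶ C), Q a → Q b → Q (a ≫ b))
    {X Y : Scheme.{u}} (f : X ⟶ Y) :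
    ∃ W : Y.Opens, P (f ∣_ W) ∧ (∀ W₀ : Y.Opens, P (f ∣_ W₀) → W₀ ≤ W) ∧
      (∀ (Y' : Scheme.{u}) (g : Y' ⟶ Y), Q g → P (pullback.snd f g) → Set.range g ⊆ (W : Set Y)) ∧
      (∀ (Y' : Scheme.{u}) (g : Y' ⟶ Y), Q g → ∀ W' : Y'.Opens, P (pullback.snd f g ∣_ W') →
        (∀ W₀ : Y'.Opens, P (pullback.snd f g ∣_ W₀) → W₀ ≤ W') → W' = g ⁻¹ᵁ W) := by
  let W : Y.Opens := sSup {U | P (f ∣_ U)}
  have hle : ∀ U : Y.Opens, P (f ∣_ U) → U ≤ W := fun U hU => le_sSup hU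
  have aux : ∀ {A B : Scheme.{u}} (h : A ⟶ B) (U : B.Opens), P (h ∣_ U) ↔ P (pullback.snd h U.ι) := fun h U => by
    rw [← (isPullback_morphismRestrict h U).flip.isoPullback_hom_snd, P.cancel_left_of_respectsIso]
  let J := {U : Y.Opens // P (f ∣_ U)}
  have hW : P (f ∣_ W) := by
    refine IsLocalAtTarget.of_forall_pullbackSnd (P := P) (K := Scheme.precoverage Q) (R := Presieve.ofArrows (fun U : J => U.1.toScheme)
      (fun U : J => Y.homOfLE (hle U.1 U.2))) ?_ ?_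
    · rw [Scheme.ofArrows_mem_precoverage_iff]
      refine ⟨fun x => ?_, fun U => hQι _⟩
      obtain ⟨U, hU, hx⟩ := TopologicalSpace.Opens.mem_sSup.1 x.2
      refine ⟨⟨U, hU⟩, ⟨x.1, hx⟩, W.ι.isOpenEmbedding.injective ?_⟩
      rw [← Scheme.Hom.comp_apply, Scheme.homOfLE_ι]
      rfl
    · rintro Z a _ ha
      cases ha with | mk U => ?_
      exact (snd_lift_iff (P := P) f W _ _ (Y.homOfLE_ι (hle U.1 U.2))).2 ((aux f U.1).1 U.2)
  refine ⟨W, hW, hle, fun Y' g hg hP => ?_, fun Y' g hg W' hW' hmax => le_antisymm ?_ (hmax _ ?_)⟩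
  · rintro _ ⟨v, rfl⟩
    exact hle _ (restrict_of_image hQlift f g hg (hQopen _ hg) hP) ⟨v, rfl⟩
  · intro v hv
    have hgV : Q (W'.ι ≫ g) := hQcomp _ _ (hQι _) hg
    have hP : P (pullback.snd f (W'.ι ≫ g)) := by
      have h1 := (isPullback_morphismRestrict (pullback.snd f g) W').paste_vert (IsPullback.of_hasPullback f g).flip
      rwa [← h1.flip.isoPullback_hom_snd, P.cancel_left_of_respectsIso] at hW'
    exact hle _ (restrict_of_image hQlift f _ hgV (hQopen _ hgV) hP) ⟨⟨v, hv⟩, by rw [Scheme.Hom.comp_apply]; rfl⟩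
  · have hgV : Q ((g ⁻¹ᵁ W).ι ≫ g) := hQcomp _ _ (hQι _) hg
    have hP : P (pullback.snd f ((g ⁻¹ᵁ W).ι ≫ g)) := snd_of_range_le hQι hQlift f W hW _ hgV (by
      rintro _ ⟨v, rfl⟩
      rw [Scheme.Hom.comp_apply]
      exact v.2)
    have h1 := (isPullback_morphismRestrict (pullback.snd f g) (g ⁻¹ᵁ W)).paste_vert (IsPullback.of_hasPullback f g).flip
    rwa [← h1.flip.isoPullback_hom_snd, P.cancel_left_of_respectsIso]

end Target

end Groth.Agent.LargestOpen
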